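import Cfsg.Agent.H849.TM.Defs
import Cfsg.Agent.H58.Mon.FiveB
import Cfsg.Agent.H8.Mon.Sharp
import Cfsg.Agent.H537.OreM.Even
import Cfsg.Agent.H502.TO.Loc
import Cfsg.Agent.H642.FiTFFive
import Cfsg.Agent.H134.TM.HNThree

/-!
# The Monster: elements `g` with an element of order 5 in `⟨g⟩` (helper134)

* `five_nine` : `5 ^ 9` divides `|C(x)|`, `x` of class `5B`;
* `fb_comm` : every element of order a power of 5 commutes with an element of class `5B`;
* `ev_five` : an element of order 5 commuting with an element of order 3 commuting with a conjugate of `z` commutes with a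
  conjugate of `z`;
* `card_hn_three` : `|C(g)| ≤ 5 · 544320`, `x, y ∈ ⟨g⟩` of orders 5, 3, `x` of class `5A`;
* `b5'`, `b5` : the box `[B5]`.
-/

set_option autoImplicit false
set_option maxRecDepth 100000

namespace Cfsg.Agent.H134.TM

open Cfsg Cfsg.Agent Cfsg.Agent.MonsterX Cfsg.Agent.MonsterX.InstData Cfsg.Agent.MonsterX.MainPack Cfsg.Agent.MonsterU
open Cfsg.Agent.MonsterP Cfsg.Agent.MonsterN Cfsg.Agent.LThreeMB
open Cfsg.Agent.MonsterX.MainBasic Cfsg.Agent.MonsterX.MainSimple Cfsg.Agent.MonsterX.Model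
open Cfsg.Agent.MonsterU.Lam2 Cfsg.Agent.MonsterU.TwoCls
open Cfsg.Agent.BpSpor.MBigModel Cfsg.Agent.H199.NSmMon
open Cfsg.Agent.H498.Ab Cfsg.Agent.H199.AbTool Cfsg.Agent.H199.AbRad Cfsg.Agent.H199.AbMon
open Cfsg.Agent.H8.Mon (NoInv)
open Cfsg.Agent.H849.TM
open Cfsg.Spor (Co1)
open Subgroup (centralizer zpowers mem_centralizer_singleton_iff)

set_option maxHeartbeats 1000000 in
/-- **`5 ^ 9` divides `|C(x)|`, `x` of class `5B`.** -/
theorem five_nine {x : centralizer ({zz} : Set MG)} (hx : orderOf x = 5) (hfr : fr (pi x) = 1) :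
    5 ^ 9 ∣ Nat.card ↥(centralizer ({(x : MG)} : Set MG)) := by
  have := finite
  have hp : Fact (Nat.Prime 5) := ⟨Nat.prime_five⟩
  have hj := CpAutBFive.Final.hJ (pi x) (MFive.orderOf_pi chart Nat.prime_five (by decide) hx) hfr
  obtain ⟨e⟩ := hj
  have hs : IsSimpleGroup (XX (pi x)) := (MulEquiv.isSimpleGroup_congr e).2 Cfsg.Agent.S1620.result.1
  have hc : Nat.card (XX (pi x)) = 604800 := by
    rw [Nat.card_congr e.toEquiv, Cfsg.Agent.J2Sylow.SporSylow.card_J2]
  have hns : ¬ Group.IsSolvable (XX (pi x)) := not_solvable hs hc (by norm_num) (by norm_num)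
  obtain ⟨N, hN⟩ := BpSpor.M5.exists_rad chart (by norm_num) hx hfr
    (fun d hd hc => MFive.isolated chart BpSpor.M5.trNe hx hfr d hd hc) hs (by rw [hc]; decide)
  obtain ⟨k, hk, hkk⟩ := PreUniq.MonRow.exists_kk Nat.prime_five (by decide) PreUniq.MonFiveRow.neg_five x hx hfr
  have hkk' : k * k = zz := hkk
  have hkz : k * zz = zz * k := by rw [← hkk', mul_assoc]
  obtain ⟨K, hK⟩ : ∃ K : ↥(centralizer ({zD x} : Set ↥(centralizer ({(x : MG)} : Set MG)))),
      (K : ↥(centralizer ({(x : MG)} : Set MG))) * K = zD x :=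
    ⟨⟨⟨k, mem_centralizer_singleton_iff.2 hk⟩, mem_centralizer_singleton_iff.2 (Subtype.ext hkz)⟩, Subtype.ext hkk'⟩
  obtain ⟨m, hm, hcm⟩ := hN.card_N_mul hns
  rw [hc] at hcm
  have hD4 := BpSpor.M5.dvd_zero chart BpSpor.M5.trNe (CpAutBFive.Closed.coFive CpAutBFive.Final.hJ)
    CpAutBFive.Closed.hnEight BpSpor.M5.hasPair (CoFive.Ranks.wclassOf _) CoFive.Sylow.exists_four hx hfr
  obtain ⟨S, hS, hSp, hSN, hxS, hS7⟩ := H546.RadSeven.exists_radical_seven hns hN hK (a := 2) hD4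
    (by rw [hc]; norm_num) (by rw [hc]; norm_num)
  have hN7 : 5 ^ 7 ∣ Nat.card ↥N := hS7.trans (Subgroup.card_dvd_of_le hSN)
  rw [hcm]
  have h1 : 5 ^ 9 = 5 ^ 7 * 5 ^ 2 := by norm_num
  rw [h1]
  exact mul_dvd_mul hN7 (dvd_mul_of_dvd_left (by norm_num) m)

/-- an element of class `5B` -/
theorem exists_fb : ∃ x : centralizer ({zz} : Set MG), orderOf x = 5 ∧ fr (pi x) = 1 := by
  obtain ⟨x₀, u, g, hx₀, hfr₀, huz, hux, hne, hg⟩ := BpSpor.M5.hasPair
  exact ⟨x₀, hx₀, hfr₀⟩

/-- **An element of order a power of 5 commutes with an element of class `5B`.** -/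
theorem fb_comm {g : MG} {k : ℕ} (hg : g ^ 5 ^ k = 1) : ∃ w : MG, FB 5 w ∧ w * g = g * w := by
  have hfin := finite
  have hp : Fact (Nat.Prime 5) := ⟨Nat.prime_five⟩
  obtain ⟨x, hx, hfr⟩ := exists_fb
  -- a Sylow subgroup of the centralizer
  obtain ⟨P⟩ : Nonempty (Sylow 5 ↥(centralizer ({(x : MG)} : Set MG))) := inferInstance
  have hP9 : 5 ^ 9 ∣ Nat.card ↥(P : Subgroup ↥(centralizer ({(x : MG)} : Set MG))) :=
    P.pow_dvd_card_of_pow_dvd_card (five_nine hx hfr)
  let Q : Subgroup MG := (P : Subgroup ↥(centralizer ({(x : MG)} : Set MG))).map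
    (centralizer ({(x : MG)} : Set MG)).subtype
  have hQp : IsPGroup 5 ↥Q := P.isPGroup'.map _
  have hQ9 : 5 ^ 9 ∣ Nat.card ↥Q := by
    rw [Subgroup.card_map_of_injective (Subgroup.subtype_injective _)]
    exact hP9
  -- `g` in a Sylow subgroup of the Monster
  have hgp : IsPGroup 5 ↥(zpowers g) := by
    rw [IsPGroup.iff_card]
    have h1 : orderOf g ∣ 5 ^ k := orderOf_dvd_of_pow_eq_one hg
    obtain ⟨j, -, hj⟩ := (Nat.dvd_prime_pow Nat.prime_five).1 h1
    exact ⟨j, by rw [Nat.card_zpowers, hj]⟩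
  obtain ⟨T, hT⟩ := hgp.exists_le_sylow
  obtain ⟨T', hT'⟩ := hQp.exists_le_sylow
  obtain ⟨c, hc⟩ := MulAction.exists_smul_eq MG T T'
  have hQT : Q = (T' : Subgroup MG) := by
    apply Subgroup.eq_of_le_of_card_ge hT'
    obtain ⟨j, hj⟩ := IsPGroup.iff_card.1 T'.isPGroup'
    have h1 : 5 ^ j ∣ Nat.card MG := by rw [← hj]; exact Subgroup.card_subgroup_dvd_card _
    have h2 : j ≤ 9 := by
      by_contra hcon
      have h3 : 5 ^ 10 ∣ Nat.card MG := (pow_dvd_pow 5 (by omega)).trans h1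
      rw [card_M] at h3
      norm_num at h3
    rw [hj]
    exact (Nat.pow_le_pow_right (by norm_num) h2).trans (Nat.le_of_dvd Nat.card_pos hQ9)
  have h1 : c * g * c⁻¹ ∈ (T' : Subgroup MG) := by
    rw [← hc]
    exact Subgroup.smul_mem_pointwise_smul g (MulAut.conj c) (T : Subgroup MG) (hT (Subgroup.mem_zpowers g))
  rw [← hQT] at h1
  obtain ⟨⟨q, hq⟩, -, hqe⟩ := h1
  have hq' : q = c * g * c⁻¹ := hqe
  have h2 : (c * g * c⁻¹) * (x : MG) = x * (c * g * c⁻¹) := by
    rw [← hq']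
    exact mem_centralizer_singleton_iff.1 hq
  refine ⟨c⁻¹ * x * c, ⟨c⁻¹, x, hx, hfr, by rw [inv_inv]⟩, ?_⟩
  calc c⁻¹ * x * c * g = c⁻¹ * (x * (c * g * c⁻¹)) * c := by group
    _ = c⁻¹ * ((c * g * c⁻¹) * x) * c := by rw [h2]
    _ = g * (c⁻¹ * x * c) := by group

theorem even_th (a : Spor.Th) (ha : orderOf a = 5) : 2 ∣ Nat.card ↥(centralizer ({a} : Set Spor.Th)) := by
  rw [H502.TO.card_five ha]
  norm_num

theorem even_fi (a : Spor.Fi24') (ha : orderOf a = 5) : 2 ∣ Nat.card ↥(centralizer ({a} : Set Spor.Fi24')) := by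
  have hfin : Finite Spor.Fi24' := Nat.finite_of_card_ne_zero (by rw [Cfsg.Agent.S1698.result.2]; norm_num)
  have hp : Fact (Nat.Prime 5) := ⟨Nat.prime_five⟩
  obtain ⟨P⟩ : Nonempty (Sylow 5 ↥(centralizer ({a} : Set Spor.Fi24'))) := inferInstance
  have h1 := H642.FiTFFive.even_card ha
  exact (even_iff_two_dvd.1 h1).trans ((Sylow.card_dvd_index P).trans (Subgroup.index_dvd_card _))

/-- **An element of order 5 commuting with an element of order 3 commuting with a conjugate of `z`.** -/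
theorem ev_five {x y : MG} (hx : orderOf x = 5) (hy : orderOf y = 3) (he : Ev y) (hxy : x * y = y * x) : Ev x := by
  have hfin := finite
  have h2F : Fact (Nat.Prime 2) := ⟨Nat.prime_two⟩
  obtain ⟨s, hs⟩ := exists_prime_orderOf_dvd_card' (G := ↥(centralizer ({x} : Set MG))) 2
    (H537.OreM.even_of_three' Nat.prime_five (by norm_num) even_th even_fi hy he hx hxy)
  exact H8.Mon.ev_of_inv hx (s := (s : MG)) (by rw [Subgroup.orderOf_coe, hs]) (mem_centralizer_singleton_iff.1 s.2)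

/-- an element of order 3 commuting with an involution commutes with a conjugate of `z` -/
theorem noInv_three {y : MG} (hy : orderOf y = 3) (he : ¬ Ev y) : NoInv y := by
  rintro ⟨v, hv, hvy⟩
  refine he (Cfsg.Agent.LThreeM.FiRow.exists_z_of_comm (x := y) (v := v) (by rw [← hy, pow_orderOf_eq_one])
    (by rw [← pow_two, ← hv, pow_orderOf_eq_one]) (by
      rintro rfl
      rw [orderOf_one] at hv
      norm_num at hv) hvy.symm)

/-- the centralizer of `g`, modulo `x` -/
theorem card_le_quot {g x y : MG} (hx : orderOf x = 5) (hxg : x ∈ zpowers g) (hyg : y ∈ zpowers g) (hyx : y * x = x * y) :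
    Nat.card ↥(centralizer ({g} : Set MG)) ≤ 5 * Nat.card ↥(centralizer ({mk x hyx} : Set (XX x))) := by
  have hfin := finite
  have hle : centralizer ({g} : Set MG) ≤ centralizer ({x} : Set MG) := by
    intro c hc
    obtain ⟨i, rfl⟩ := hxg
    exact mem_centralizer_singleton_iff.2
      ((show Commute c g from mem_centralizer_singleton_iff.1 hc).zpow_right i).eq
  have hle' : centralizer ({g} : Set MG) ≤ centralizer ({y} : Set MG) := by
    intro c hc
    obtain ⟨i, rfl⟩ := hyg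
    exact mem_centralizer_singleton_iff.2
      ((show Commute c g from mem_centralizer_singleton_iff.1 hc).zpow_right i).eq
  let f : ↥(centralizer ({g} : Set MG)) →* XX x :=
    (QuotientGroup.mk' (Zx x)).comp (Subgroup.inclusion hle)
  have hf : ∀ c : ↥(centralizer ({g} : Set MG)), f c = mk x (mem_centralizer_singleton_iff.1 (hle c.2)) := fun c => rfl
  have hr : f.range ≤ centralizer ({mk x hyx} : Set (XX x)) := by
    rintro _ ⟨c, rfl⟩
    rw [mem_centralizer_singleton_iff, hf]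
    have h1 := mem_centralizer_singleton_iff.1 (hle' c.2)
    have h2 : ((c : MG) * y) * x = x * (c * y) := by
      rw [mul_assoc, hyx, ← mul_assoc, mem_centralizer_singleton_iff.1 (hle c.2), mul_assoc]
    have h3 : (y * (c : MG)) * x = x * (y * c) := by rw [← h1]; exact h2
    rw [mk_mul _ _ h2, mk_mul _ _ h3]
    exact mk_congr _ _ h1
  have hk : Nat.card ↥f.ker ≤ 5 := by
    have h1 : f.ker.map (centralizer ({g} : Set MG)).subtype ≤ zpowers x := by
      rintro _ ⟨c, hc, rfl⟩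
      have h2 : mk x (mem_centralizer_singleton_iff.1 (hle c.2)) = 1 := by rw [← hf]; exact hc
      exact (mk_eq_one _).1 h2
    have h2 := Subgroup.card_le_of_le h1
    rwa [Subgroup.card_map_of_injective (Subgroup.subtype_injective _), Nat.card_zpowers, hx] at h2
  rw [← f.ker.card_mul_index, Subgroup.index_ker]
  exact Nat.mul_le_mul hk (Subgroup.card_le_of_le hr)

/-- **`|C(g)| ≤ 5 · 544320`** -/
theorem card_hn_three {g x y : MG} (hx : orderOf x = 5) (hN : Spor.IsoHN (XX x)) (hy : orderOf y = 3)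
    (hxg : x ∈ zpowers g) (hyg : y ∈ zpowers g) : Nat.card ↥(centralizer ({g} : Set MG)) ≤ 5 * 544320 := by
  have hfin := finite
  have hyx : y * x = x * y := by
    obtain ⟨i, rfl⟩ := hxg
    obtain ⟨j, rfl⟩ := hyg
    exact ((Commute.refl g).zpow_zpow j i).eq
  have h1 := card_le_quot hx hxg hyg hyx
  obtain ⟨e⟩ := hN
  have hyo : orderOf (mk x hyx) = 3 := by
    have h3F : Fact (Nat.Prime 3) := ⟨Nat.prime_three⟩
    refine orderOf_eq_prime ?_ ?_
    · have hc : Commute y x := hyx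
      have h1 : (mk x hyx) ^ 3 = mk x (hc.pow_left 3).eq := rfl
      rw [h1]
      refine (mk_eq_one _).2 ⟨0, ?_⟩
      rw [zpow_zero, ← hy, pow_orderOf_eq_one]
    · intro h1
      obtain ⟨i, hi⟩ := (mk_eq_one _).1 h1
      have h2 : orderOf y ∣ 5 := by
        rw [← hi, ← hx]
        exact orderOf_dvd_of_mem_zpowers ⟨i, rfl⟩
      rw [hy] at h2
      norm_num at h2
  refine h1.trans (Nat.mul_le_mul_left 5 ?_)
  rw [LThreeB.card_centralizer_congr e]
  exact hn_three (by rw [MulEquiv.orderOf_eq, hyo])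

/-- the classes of the elements of order 5 commuting with a conjugate of `z` -/
theorem hn_or_fb {x : MG} (hx : orderOf x = 5) (he : Ev x) :
    Spor.IsoHN (XX x) ∨ ∃ w : MG, FB 5 w ∧ w ∈ zpowers x := by
  have := finite
  have := simple
  obtain ⟨c, hc⟩ := he
  have h1 : (c⁻¹ * x * c) * zz = zz * (c⁻¹ * x * c) := by
    calc (c⁻¹ * x * c) * zz = c⁻¹ * (x * (c * zz * c⁻¹)) * c := by group
      _ = c⁻¹ * ((c * zz * c⁻¹) * x) * c := by rw [hc]
      _ = zz * (c⁻¹ * x * c) := by group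
  have hxo : orderOf (c⁻¹ * x * c) = 5 := (H8.Mon.orderOf_conj' c x).trans hx
  let x' : ↥(centralizer ({zz} : Set MG)) := ⟨c⁻¹ * x * c, mem_centralizer_singleton_iff.2 h1⟩
  have hx' : orderOf x' = 5 := by rw [← Subgroup.orderOf_coe]; exact hxo
  rcases MFive.cases_five chart BpSpor.M5.trNe (CpAutBFive.Closed.coFive CpAutBFive.Final.hJ)
    CpAutBFive.Closed.hnEight BpSpor.M5.hasPair hx' with hN | ⟨x₀, k, i, hx₀, hfr, hk⟩
  · left
    obtain ⟨-, ⟨e⟩⟩ := exists_XX_equiv (x := (x' : MG)) (x' := x) (g := c⁻¹) (by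
      show c⁻¹ * x * c⁻¹⁻¹ = c⁻¹ * x * c
      rw [inv_inv])
    obtain ⟨e'⟩ := hN
    exact ⟨e.trans e'⟩
  · right
    have hp : Nat.Prime 5 := Nat.prime_five
    have hx₀o : orderOf (x₀ : MG) = 5 := by rw [Subgroup.orderOf_coe, hx₀]
    have hio : orderOf ((x₀ : MG) ^ i) = 5 := by
      rw [← hk, ← hxo]
      exact MulEquiv.orderOf_eq (MulAut.conj k) _
    have h2 : i.Coprime 5 := by
      rw [Nat.coprime_comm, hp.coprime_iff_not_dvd]
      rintro ⟨m, rfl⟩
      rw [pow_mul, ← hx₀o, pow_orderOf_eq_one, one_pow, orderOf_one] at hio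
      norm_num [hx₀o] at hio
    obtain ⟨m, hm⟩ := exists_pow_eq_self_of_coprime (x := (x₀ : MG)) (n := i) (by rw [hx₀o]; exact h2)
    refine ⟨(c * k⁻¹) * (x₀ : MG) * (c * k⁻¹)⁻¹, ⟨c * k⁻¹, x₀, hx₀, hfr, rfl⟩, m, ?_⟩
    show x ^ (m : ℤ) = _
    have h3 : x = (c * k⁻¹) * (x₀ : MG) ^ i * (c * k⁻¹)⁻¹ := by
      rw [← hk]
      show x = c * k⁻¹ * (k * (c⁻¹ * x * c) * k⁻¹) * (c * k⁻¹)⁻¹
      group
    rw [zpow_natCast, h3, conj_pow, hm]

/-- **`[B5]`, without parity.** -/
theorem b5' (h3 : P3) {g x : MG} (hx : orderOf x = 5) (hxg : x ∈ zpowers g) (hno : NoFB 5 g)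
    (hpr : ∀ r : ℕ, r.Prime → r ∣ orderOf g → r = 3 ∨ r = 5) : Small g := by
  have hfin := finite
  by_cases hd : 3 ∣ orderOf g
  · -- an element of order 3
    obtain ⟨m, hm⟩ := hd
    have hgo : 0 < orderOf g := orderOf_pos g
    have hm0 : m ≠ 0 := by rintro rfl; omega
    have hy : orderOf (g ^ m) = 3 := by
      rw [orderOf_pow' g hm0, hm, Nat.gcd_eq_right (Dvd.intro_left _ rfl), Nat.mul_div_cancel _ (Nat.pos_of_ne_zero hm0)]
    have hyg : g ^ m ∈ zpowers g := ⟨m, by simp⟩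
    have hxy : x * g ^ m = g ^ m * x := by
      obtain ⟨i, rfl⟩ := hxg
      exact (((Commute.refl g).zpow_left i).pow_right m).eq
    by_cases he : Ev x
    · rcases hn_or_fb hx he with hN | ⟨w, hw, hwx⟩
      · exact (card_hn_three hx hN hy hxg hyg).trans (by norm_num)
      · exfalso
        refine hno w hw ?_
        obtain ⟨i, rfl⟩ := hxg
        obtain ⟨j, rfl⟩ := hwx
        exact (((Commute.refl g).zpow_left i).zpow_left j).eq
    · have hny : ¬ Ev (g ^ m) := fun h => he (ev_five hx hy h hxy)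
      have hle : Nat.card ↥(centralizer ({g} : Set MG)) ≤ Nat.card ↥(centralizer ({g ^ m} : Set MG)) := by
        refine Subgroup.card_le_of_le fun c hc => mem_centralizer_singleton_iff.2 ?_
        exact ((show Commute c g from mem_centralizer_singleton_iff.1 hc).pow_right m).eq
      refine hle.trans (h3 (g ^ m) ?_ ⟨1, ?_⟩ (noInv_three hy hny))
      · intro h
        rw [h, orderOf_one] at hy
        omega
      · rw [pow_one, ← hy, pow_orderOf_eq_one]
  · -- `g` is a 5-element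
    exfalso
    have h5 : ∃ k, orderOf g = 5 ^ k := by
      refine ⟨(orderOf g).primeFactorsList.length, ?_⟩
      refine Nat.eq_prime_pow_of_unique_prime_dvd (orderOf_pos g).ne' fun {r} hr hrd => ?_
      rcases hpr r hr hrd with h | h
      · exact absurd (h ▸ hrd) hd
      · exact h
    obtain ⟨k, hk⟩ := h5
    obtain ⟨w, hw, hwg⟩ := fb_comm (g := g) (k := k) (by rw [← hk, pow_orderOf_eq_one])
    exact hno w hw hwg

/-- **`[B5]`** -/
theorem b5 (h3 : P3) : B5 := fun _ _ hx hxg _ h5 _ hpr => b5' h3 hx hxg h5 hpr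

end Cfsg.Agent.H134.TM
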